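import Groth.Agent.AmpleX.QAGenerated
import Groth.Agent.AmpleX.Separated
import Groth.Agent.H23.TensorDesc
import Groth.Agent.TwistFlat.Converse

/-!
# Counit surjectivity for twisted ideals implies relative ampleness
-/

universe u

open CategoryTheory CategoryTheory.Limits AlgebraicGeometry TopologicalSpace
open Groth.Agent.H23.PicMul

set_option backward.isDefEq.respectTransparency false
set_option backward.isDefEq.respectTransparency.types false

namespace Groth.Agent.AmpleX

open Groth.Agent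

variable {X Y : Scheme.{u}} {J M : X.Modules}

/-- A finite type ideal which is everything on an affine open and vanishes outside of it. -/
theorem exists_ft_ideal [CompactSpace X] [X.IsSeparated] {U : X.Opens} (hU : IsAffineOpen U) :
    ∃ (J : X.Modules) (i : J ⟶ Coh.structureModule X), Mono i ∧ Coh.IsQCoh J ∧ CohB1.IsFT J ∧
      (∀ (O : X.Opens) (s : Γ(J, O)) (z : X), z ∉ U → z ∉ X.basicOpen (show Γ(X, O) from i.app O s)) ∧
      ∃ e : Γ(J, U), i.app U e = (show Γ(Coh.structureModule X, U) from (1 : Γ(X, U))) := by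
  let Z : Set X := (U : Set X)ᶜ
  let G := (QCoh.vanIdeal Z).toModules
  have hG : Coh.IsQCoh G := QCoh.isQCoh_vanIdeal Z
  let N₀ : QCoh.SubMod G :=
    { mem := fun _ => ⊤, map_mem := fun _ _ _ => trivial, of_locally := fun _ _ _ => trivial }
  have h1mem : (show Γ(Coh.structureModule X, U) from (1 : Γ(X, U))) ∈ (QCoh.vanIdeal Z).mem U :=
    fun z hz hzb => hz (X.basicOpen_le _ hzb)
  obtain ⟨e, he⟩ := (QCoh.vanIdeal Z).exists_app_eq h1mem
  have h₀ : QCoh.FTOn N₀ U := fun y hy =>
    ⟨U, hU, hy, le_rfl, {e}, Set.finite_singleton e, fun _ _ => trivial, fun O hO s _ z hz =>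
      ⟨O, le_rfl, hz, by
        rw [Set.image_singleton, Submodule.mem_span_singleton, QCoh.rs_self]
        refine ⟨QCoh.toFn ((QCoh.vanIdeal Z).ι.app O s), (QCoh.vanIdeal Z).ι_app_injective O ?_⟩
        rw [Scheme.Modules.Hom.app_smul, QCoh.rs, QCoh.map_app_comm, he]
        show QCoh.toFn ((QCoh.vanIdeal Z).ι.app O s) * X.presheaf.map (homOfLE hO).op 1 = _
        rw [map_one, mul_one]⟩⟩
  obtain ⟨N, hN, hag⟩ : ∃ N : QCoh.SubMod G, QCoh.FTOn N ⊤ ∧ ∀ O, O ≤ U → N.mem O = N₀.mem O := by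
    classical
    choose V hV hzV _ using fun z : X => exists_isAffineOpen_mem_and_subset (x := z) (U := ⊤) trivial
    have hind : ∀ S : Finset X, ∃ (W : X.Opens) (N : QCoh.SubMod G), IsCompact (W : Set X) ∧ U ≤ W ∧
        (∀ z ∈ S, V z ≤ W) ∧ QCoh.FTOn N W ∧ ∀ O, O ≤ U → N.mem O = N₀.mem O := by
      intro S
      induction S using Finset.induction with
      | empty => exact ⟨U, N₀, hU.isCompact, le_rfl, by simp, h₀, fun _ _ => rfl⟩
      | insert z S hz ih =>
        obtain ⟨W, N, hWc, hUW, hS, hN, hag⟩ := ih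
        have hK : IsCompact ((V z ⊓ W : X.Opens) : Set X) :=
          QuasiSeparatedSpace.inter_isCompact _ _ (V z).2 (hV z).isCompact W.2 hWc
        obtain ⟨N', hN', hft'⟩ := QCoh.exists_ft_step hG hN (hV z) hK
        refine ⟨W ⊔ V z, N', hWc.union (hV z).isCompact, hUW.trans le_sup_left, ?_, hft',
          fun O hO => (hN' O (hO.trans hUW)).trans (hag O hO)⟩
        intro y hy
        rcases Finset.mem_insert.1 hy with rfl | hy
        · exact le_sup_right
        · exact (hS y hy).trans le_sup_left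
    obtain ⟨S, hS⟩ := isCompact_univ.elim_finite_subcover (fun z : X => (V z : Set X)) (fun z => (V z).2)
      (fun z _ => Set.mem_iUnion.2 ⟨z, hzV z⟩)
    obtain ⟨W, N, -, -, hle, hN, hag⟩ := hind S
    obtain rfl : W = ⊤ := top_unique fun y _ => by
      obtain ⟨z, hz, hyz⟩ := Set.mem_iUnion₂.1 (hS (Set.mem_univ y))
      exact hle z hz hyz
    exact ⟨N, hN, hag⟩
  obtain ⟨e', he'⟩ := N.exists_app_eq (s := e) (U := U) (by rw [hag U le_rfl]; trivial)
  refine ⟨N.toModules, N.ι ≫ (QCoh.vanIdeal Z).ι, inferInstance, QCoh.isQCoh_of_ftOn hG hN,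
    QCoh.isFT_of_ftOn hG hN, fun O s z hz => (QCoh.vanIdeal Z).ι_app_mem O (N.ι.app O s) z hz, e', ?_⟩
  show (QCoh.vanIdeal Z).ι.app U (N.ι.app U e') = _
  rw [he', he]

/-- The pairing of an ideal with a module. -/
noncomputable def idealPair (i : J ⟶ Coh.structureModule X) (M : X.Modules) : H23.TensorDesc.Bilin J M M :=
  { b := fun U s t => (show Γ(X, U) from i.app U s) • t
    add_left := fun U m m' n => by rw [map_add]; exact add_smul _ _ _
    smul_left := fun U r m n => by
      rw [Scheme.Modules.Hom.app_smul]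
      exact mul_smul r (show Γ(X, U) from i.app U m) n
    add_right := fun U m n n' => smul_add _ _ _
    smul_right := fun U r m n => smul_comm _ _ _
    res := fun {U V} h m n => (Scheme.Modules.map_smul M (homOfLE h) (show Γ(X, U) from i.app U m) n).trans
      (congrArg (fun c : Γ(X, V) => c • M.presheaf.map (homOfLE h).op n) (QCoh.map_app_comm i (homOfLE h) m).symm) }

/-- Multiplying the sections of a module by those of an ideal. -/
noncomputable def idealSmul (i : J ⟶ Coh.structureModule X) (M : X.Modules) : CohB1.tensorMod J M ⟶ M :=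
  H23.TensorDesc.desc (idealPair i M)

theorem idealSmul_tmul (i : J ⟶ Coh.structureModule X) (M : X.Modules) {U : X.Opens} (s : Γ(J, U))
    (t : Γ(M, U)) : (idealSmul i M).app U (InvX.tmul s t) = (show Γ(X, U) from i.app U s) • t :=
  H23.TensorDesc.desc_tmul (idealPair i M) U s t

/-- A map which is not zero at a point has a relative section not vanishing there if the counit is epi. -/
theorem exists_locus_of_epi_counit_comp (f : X ⟶ Y) {G : X.Modules} (hM : PicF.IsInvertible M) (ψ : G ⟶ M)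
    (hepi : Epi ((Scheme.Modules.pullbackPushforwardAdjunction f).counit.app G)) (x : X) {V : Y.Opens}
    (hV : f x ∈ V) {U : X.Opens} (hxU : x ∈ U) (t : Γ(G, U)) (ht : InvX.IsFrame (ψ.app U t)) :
    ∃ (V' : Y.Opens) (_ : V' ≤ V) (_ : f x ∈ V') (a : Γ(G, f ⁻¹ᵁ V')), x ∈ locus (ψ.app _ a) := by
  by_contra hcon
  push Not at hcon
  let j := X.fromSpecResidueField x
  let adj := Scheme.Modules.pullbackPushforwardAdjunction j
  let φ : G ⟶ (Scheme.Modules.pushforward j).obj ((Scheme.Modules.pullback j).obj M) := ψ ≫ adj.unit.app M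
  have hj : ∀ z, j z = x := fun z => by
    have hz : j z ∈ Set.range j := ⟨z, rfl⟩
    rwa [Scheme.range_fromSpecResidueField] at hz
  have hiM := PicClLib.isInvertible_pullback j hM
  have hφ : (Scheme.Modules.pushforward f).map φ = 0 := by
    refine Scheme.Modules.hom_ext _ _ fun V'' => ?_
    ext a
    show (InvX.pullElt j (ψ.app (f ⁻¹ᵁ V'') a) : Γ((Scheme.Modules.pullback j).obj M, j ⁻¹ᵁ (f ⁻¹ᵁ V''))) = 0
    refine eq_zero_of_locus_eq_bot hiM _ ?_
    rw [locus_pullElt hM, eq_bot_iff]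
    intro z hz
    have hz' : x ∈ locus (ψ.app (f ⁻¹ᵁ V'') a) := hj z ▸ hz
    have hxV'' : x ∈ f ⁻¹ᵁ V'' := locus_le (ψ.app (f ⁻¹ᵁ V'') a) hz'
    refine absurd ?_ (hcon (V'' ⊓ V) inf_le_right ⟨hxV'', hV⟩
      (AModX.res G (f.preimage_mono inf_le_left) a))
    erw [AModX.app_res]
    rw [locus_res]
    exact ⟨hz', ⟨hxV'', hV⟩⟩
  have hzero : (Scheme.Modules.pullbackPushforwardAdjunction f).counit.app G ≫ φ = 0 := by
    refine ((Scheme.Modules.pullbackPushforwardAdjunction f).homEquiv _ _).injective ?_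
    rw [Adjunction.homEquiv_unit, Adjunction.homEquiv_unit, Functor.map_comp,
      Adjunction.right_triangle_components_assoc, hφ]
    have h0 : (Scheme.Modules.pushforward f).map
        (0 : (Scheme.Modules.pullback f).obj ((Scheme.Modules.pushforward f).obj G) ⟶
          (Scheme.Modules.pushforward j).obj ((Scheme.Modules.pullback j).obj M)) = 0 := by
      refine Scheme.Modules.hom_ext _ _ fun V'' => ?_
      rfl
    rw [h0]
    exact (Limits.comp_zero).symm
  have hφ0 : φ = 0 := by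
    rw [← cancel_epi ((Scheme.Modules.pullbackPushforwardAdjunction f).counit.app G), hzero, Limits.comp_zero]
  have hfr := InvX.isFrame_pullElt j ht
  have he0 : InvX.pullElt j (ψ.app U t) = 0 := by
    show φ.app U t = 0
    rw [hφ0]
    rfl
  have h01 : (1 : Γ(Spec (X.residueField x), j ⁻¹ᵁ U)) = 0 := by
    refine (hfr _ le_rfl).1 ?_
    simp only [AModX.res_self, he0, smul_zero]
  obtain ⟨z⟩ : Nonempty (Spec (X.residueField x)) := inferInstance
  have hz : z ∈ j ⁻¹ᵁ U := by
    show j z ∈ U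
    rw [hj]; exact hxU
  rw [← Scheme.basicOpen_of_isUnit (Spec (X.residueField x)) (U := j ⁻¹ᵁ U) isUnit_one, h01,
    Scheme.basicOpen_zero] at hz
  exact hz

/-- Images of a twisted ideal vanishing outside of `U` have locus inside `U`. -/
theorem locus_idealSmul_le (hJ : Coh.IsQCoh J) (hM : PicF.IsInvertible M) (i : J ⟶ Coh.structureModule X)
    {U : X.Opens} (hi : ∀ (O : X.Opens) (s : Γ(J, O)) (z : X), z ∉ U → z ∉ X.basicOpen (show Γ(X, O) from i.app O s))
    {O : X.Opens} (a : Γ(CohB1.tensorMod J M, O)) : locus ((idealSmul i M).app O a) ≤ U := by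
  intro z hz
  by_contra hzU
  obtain ⟨W₀, hzW₀, ε, hε⟩ := InvX.exists_frame hM z
  obtain ⟨W, hW, hzW, hWle⟩ := exists_isAffineOpen_mem_and_subset (x := z) (U := W₀ ⊓ O)
    ⟨hzW₀, locus_le _ hz⟩
  have hεW := hε.res (le_trans hWle inf_le_left)
  obtain ⟨s, hs⟩ := (TwistFlat.bijective_tmul_frame hJ (ProjUPX.isQCoh_of_isInvertible hM) hW hεW).2
    (AModX.res _ (le_trans hWle inf_le_right) a)
  have hres : AModX.res M (le_trans hWle inf_le_right) ((idealSmul i M).app O a) =
      (show Γ(X, W) from i.app W s) • AModX.res M (le_trans hWle inf_le_left) ε := by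
    erw [← AModX.app_res, ← hs]
    exact idealSmul_tmul i M s _
  have hzb : z ∈ locus ((idealSmul i M).app O a) ⊓ W := ⟨hz, hzW⟩
  rw [locus_inf _ (le_trans hWle inf_le_right) hεW hres] at hzb
  exact hi W s z hzU hzb

/-- Surjective counits for twisted finite type ideals give relative ampleness. -/
theorem isRelAmple_of_epi_counit_ideals [CompactSpace X] [X.IsSeparated] (f : X ⟶ Y) [IsSeparated f]
    [QuasiCompact f] {L : X.Modules} (hL : PicF.IsInvertible L)
    (h : ∀ (J : X.Modules) (i : J ⟶ Coh.structureModule X), Mono i → Coh.IsQCoh J → CohB1.IsFT J →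
      ∃ n : ℕ, 0 < n ∧
        Epi ((Scheme.Modules.pullbackPushforwardAdjunction f).counit.app (CohB1.tensorMod J (CohB1.tensorPow L n)))) :
    RelAmple.IsRelAmple f L := by
  refine ⟨inferInstance, fun V => isAmple_preimage_of_local hL V.2 fun x hx => ?_⟩
  obtain ⟨W, hxW, e₀, he₀⟩ := InvX.exists_frame hL x
  obtain ⟨U, hU, hxU, hUle⟩ := exists_isAffineOpen_mem_and_subset (x := x) (U := W ⊓ f ⁻¹ᵁ V.1) ⟨hxW, hx⟩
  obtain ⟨J, i, hmono, hJq, hJft, hi, e, he⟩ := exists_ft_ideal hU
  obtain ⟨n, hn, hepi⟩ := h J i hmono hJq hJft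
  have hLn := InvX.isInvertible_tensorPow hL n
  obtain ⟨ε, hε⟩ : ∃ ε : Γ(CohB1.tensorPow L n, U), InvX.IsFrame ε :=
    ⟨_, isFrame_powElt (he₀.res (le_trans hUle inf_le_left)) n⟩
  have ht : InvX.IsFrame ((idealSmul i (CohB1.tensorPow L n)).app U (InvX.tmul e ε)) := by
    rw [idealSmul_tmul, he]
    exact (one_smul Γ(X, U) ε).symm ▸ hε
  obtain ⟨V', hV', hxV', a, ha⟩ := exists_locus_of_epi_counit_comp f hLn _ hepi x hx hxU _ ht
  obtain ⟨r, hr, hxr⟩ := V.2.exists_basicOpen_le (V := V') ⟨f x, hxV'⟩ hx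
  refine ⟨r, n, hn, AModX.res _ (f.preimage_mono hr) ((idealSmul i _).app _ a), ?_⟩
  let c := (idealSmul i (CohB1.tensorPow L n)).app _ a
  rw [locus_res]
  refine ⟨⟨ha, hxr⟩, ?_⟩
  have hle : locus c ≤ U := locus_idealSmul_le hJq hLn i hi a
  let D := U ⊓ f ⁻¹ᵁ Y.basicOpen r
  have hD : IsAffineOpen D := by
    have e' : D = X.basicOpen (f.appLE V.1 U (le_trans hUle inf_le_right) r) := by
      rw [Scheme.basicOpen_appLE]
    rw [e']
    exact hU.basicOpen _
  have hDV : D ≤ f ⁻¹ᵁ V' := inf_le_right.trans (f.preimage_mono hr)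
  obtain ⟨g, hg⟩ := (hε.res (inf_le_left : D ≤ U)).exists_coord le_rfl (AModX.res _ hDV c)
  have hg' : AModX.res _ hDV c = g • AModX.res _ (inf_le_left : D ≤ U) ε := by
    rw [hg, AModX.res_self]
  have hl := locus_inf c hDV (hε.res (inf_le_left : D ≤ U)) hg'
  have e' : locus c ⊓ f ⁻¹ᵁ Y.basicOpen r = locus c ⊓ D :=
    le_antisymm (le_inf inf_le_left (le_inf (inf_le_left.trans hle) inf_le_right))
      (inf_le_inf le_rfl inf_le_right)
  rw [e', hl]
  exact hD.basicOpen g

end Groth.Agent.AmpleX
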