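import Groth.Agent.AmpleX.Generated
import Groth.Agent.AmpleX.Rel
import Groth.Agent.AmpleX.Separated
import Groth.Agent.InvX.GenEpi
import Groth.Agent.KFlatLib.Scheme.ExtZero
import Groth.Agent.QCoh.Local
import Groth.Agent.QCoh.Pullback

/-!
# Relative ampleness makes counits epimorphisms
-/

universe u

open CategoryTheory CategoryTheory.Limits AlgebraicGeometry TopologicalSpace Opposite
open Groth.Agent.H23.PicMul

set_option backward.isDefEq.respectTransparency false
set_option backward.isDefEq.respectTransparency.types false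

namespace Groth.Agent.AmpleX

open Groth.Agent

variable {X Y : Scheme.{u}} {f : X ⟶ Y} {G : X.Modules}

/-- Maps out of the structure sheaf are determined by the image of `1`. -/
theorem hom_ext_one' {W : Scheme.{u}} {Z : W.Modules} {a b : Coh.structureModule W ⟶ Z}
    (h : InvX.one a = InvX.one b) : a = b := by
  refine Scheme.Modules.hom_ext _ _ fun U => ?_
  ext r
  exact (InvX.app_eq_smul a r).trans (((congrArg (fun t => (show Γ(W, U) from r) • AModX.res Z (le_top : U ≤ ⊤) t) h)).trans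
    (InvX.app_eq_smul b r).symm)

/-- Restriction to an open preserves finite type. -/
theorem isFT_restrict' {W W' : Scheme.{u}} (j : W' ⟶ W) [IsOpenImmersion j] {M : W.Modules}
    (hM : Coh.IsQCoh M) (hft : CohB1.IsFT M) : CohB1.IsFT (M.restrict j) := by
  rw [QCoh.isFT_iff (QCoh.isQCoh_restrict j hM)]
  intro V
  obtain ⟨s, hs⟩ := (QCoh.finite_of_isFT hM hft (V.2.image_of_isOpenImmersion j)).fg_top
  let T : Set Γ(M.restrict j, V.1) := (s : Set Γ(M, j ''ᵁ V.1))
  refine ⟨⟨s, ?_⟩⟩
  show Submodule.span Γ(W', V.1) T = ⊤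
  rw [eq_top_iff]
  rintro x -
  suffices key : ∀ z : Γ(M, j ''ᵁ V.1), (show Γ(M.restrict j, V.1) from z) ∈
      Submodule.span Γ(W', V.1) T from key x
  intro z
  have hx : z ∈ Submodule.span Γ(W, j ''ᵁ V.1) (s : Set Γ(M, j ''ᵁ V.1)) := by rw [hs]; trivial
  induction hx using Submodule.span_induction with
  | mem y hy => exact Submodule.subset_span hy
  | zero => exact Submodule.zero_mem _
  | add y z _ _ hy hz => exact Submodule.add_mem _ hy hz
  | smul r y _ hy =>
    have := Submodule.smul_mem (Submodule.span Γ(W', V.1) T) ((j.appIso V.1).hom r) hy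
    convert this using 1
    show r • y = (j.appIso V.1).inv ((j.appIso V.1).hom r) • y
    rw [← ConcreteCategory.comp_apply, Iso.hom_inv_id]
    rfl

/-- Generation of the restrictions over an affine cover makes the counit epi. -/
theorem epi_counit_of_generated {ι : Type u} (V : ι → Y.Opens) (hV : ∀ x : X, ∃ i, f x ∈ V i)
    (h : ∀ i, Curv2.IsGloballyGenerated (G.restrict (f ⁻¹ᵁ V i).ι)) :
    Epi ((Scheme.Modules.pullbackPushforwardAdjunction f).counit.app G) := by
  let adj := Scheme.Modules.pullbackPushforwardAdjunction f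
  refine ⟨fun {Z} φ ψ he => ?_⟩
  have hpush : ∀ χ : G ⟶ Z, adj.unit.app _ ≫ (Scheme.Modules.pushforward f).map (adj.counit.app G ≫ χ) =
      (Scheme.Modules.pushforward f).map χ := fun χ => by
    rw [(Scheme.Modules.pushforward f).map_comp]
    exact adj.right_triangle_components_assoc G _
  have heq : (Scheme.Modules.pushforward f).map φ = (Scheme.Modules.pushforward f).map ψ := by
    rw [← hpush φ, ← hpush ψ]
    exact congrArg (fun χ => adj.unit.app _ ≫ (Scheme.Modules.pushforward f).map χ) he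
  have hloc : ∀ i, (Scheme.Modules.restrictFunctor (f ⁻¹ᵁ V i).ι).map φ =
      (Scheme.Modules.restrictFunctor (f ⁻¹ᵁ V i).ι).map ψ := fun i => by
    obtain ⟨σ, p, hp⟩ := h i
    rw [← cancel_epi p]
    refine Sigma.hom_ext _ _ fun k => ?_
    refine hom_ext_one' ?_
    let t : Γ(G, (f ⁻¹ᵁ V i).ι ''ᵁ ⊤) := InvX.one (Sigma.ι (fun _ : σ => Coh.structureModule _) k ≫ p)
    show φ.app ((f ⁻¹ᵁ V i).ι ''ᵁ ⊤) t = ψ.app ((f ⁻¹ᵁ V i).ι ''ᵁ ⊤) t
    have key : ∀ (W : X.Opens), W = f ⁻¹ᵁ V i → ∀ s : Γ(G, W), φ.app W s = ψ.app W s := by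
      rintro W rfl s
      exact congr(($heq).app (V i) s)
    exact key _ (Scheme.Opens.ι_image_top _) t
  refine Scheme.Modules.hom_ext _ _ fun U => ?_
  ext s
  refine AModX.eq_of_locally _ _ fun x hx => ?_
  obtain ⟨i, hi⟩ := hV x
  let W := f ⁻¹ᵁ V i
  refine ⟨W.ι ''ᵁ (W.ι ⁻¹ᵁ U), W.ι.image_preimage_le U, ⟨⟨x, hi⟩, hx, rfl⟩, ?_⟩
  rw [← AModX.app_res, ← AModX.app_res]
  exact congr(($(hloc i)).app (W.ι ⁻¹ᵁ U) (AModX.res G (W.ι.image_preimage_le U) s))

/-- Relative ampleness makes the counit of high twists epi. -/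
theorem eventually_epi_counit [CompactSpace X] [QuasiCompact f] {L : X.Modules} (hL : RelAmple.IsRelAmple f L)
    {F : X.Modules} (hF : Coh.IsQCoh F) (hft : CohB1.IsFT F) :
    ∃ n₀ : ℕ, ∀ n, n₀ ≤ n →
      Epi ((Scheme.Modules.pullbackPushforwardAdjunction f).counit.app (CohB1.tensorMod F (CohB1.tensorPow L n))) := by
  have hLi := isInvertible_of_isRelAmple hL
  have h1 : ∀ V : Y.affineOpens, ∃ n₀ : ℕ, ∀ n, n₀ ≤ n →
      Curv2.IsGloballyGenerated ((CohB1.tensorMod F (CohB1.tensorPow L n)).restrict (f ⁻¹ᵁ V.1).ι) := fun V => by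
    let j := (f ⁻¹ᵁ V.1).ι
    have hA : CohB1.IsAmple (L.restrict j) := hL.2 V
    haveI : CompactSpace ((f ⁻¹ᵁ V.1 : X.Opens) : Scheme.{u}) :=
      isCompact_iff_compactSpace.1 (f.isCompact_preimage V.2.isCompact)
    haveI := isSeparated_of_isAmple hA
    obtain ⟨n₀, hn⟩ := eventually_isGloballyGenerated hA (QCoh.isQCoh_restrict j hF)
      (isFT_restrict' j hF hft)
    refine ⟨n₀, fun n hle => ?_⟩
    have e : (CohB1.tensorMod F (CohB1.tensorPow L n)).restrict j ≅
        CohB1.tensorMod (F.restrict j) ((CohB1.tensorPow L n).restrict j) :=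
      ((KFlatLib.restrictTensorBiIso j).app F).app (CohB1.tensorPow L n)
    obtain ⟨e'⟩ := cl_eq_iff.1 (show PicF.cl (CohB1.tensorPow (L.restrict j) n) =
        PicF.cl ((CohB1.tensorPow L n).restrict j) by
      rw [cl_tensorPow, cl_restrict, cl_restrict, cl_tensorPow, pullCl_pow])
    exact isGloballyGenerated_of_iso ((DCoh.tensorBi.obj (F.restrict j)).mapIso e' ≪≫ e.symm) (hn n hle)
  choose n₀ hn₀ using h1
  obtain ⟨t, ht⟩ := (isCompact_range f.continuous).elim_finite_subcover (fun V : Y.affineOpens => (V.1 : Set Y))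
    (fun V => V.1.2) (fun x _ => by
      obtain ⟨_, ⟨W, hW, rfl⟩, hx, -⟩ := Y.isBasis_affineOpens.exists_subset_of_mem_open (Set.mem_univ x) isOpen_univ
      exact Set.mem_iUnion.2 ⟨⟨W, hW⟩, hx⟩)
  refine ⟨t.sup n₀, fun n hn => epi_counit_of_generated (fun V : t => V.1.1)
    (fun x => ?_) fun V => hn₀ V.1 n ((Finset.le_sup V.2).trans hn)⟩
  obtain ⟨V, hV, hxV⟩ := Set.mem_iUnion₂.1 (ht ⟨x, rfl⟩)
  exact ⟨⟨V, hV⟩, hxV⟩

end Groth.Agent.AmpleX

namespace Groth.Agent.AmpleX

variable {X Y : Scheme.{u}}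

/-- Counit surjectivity transports along isomorphisms. -/
theorem epi_counit_of_iso (f : X ⟶ Y) {G G' : X.Modules} (e : G ≅ G')
    (h : Epi ((Scheme.Modules.pullbackPushforwardAdjunction f).counit.app G)) :
    Epi ((Scheme.Modules.pullbackPushforwardAdjunction f).counit.app G') := by
  refine @epi_of_epi_fac _ _ _ _ _ _ _ _ (epi_comp _ e.hom)
    (((Scheme.Modules.pullbackPushforwardAdjunction f).counit.naturality e.hom))

end Groth.Agent.AmpleX
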