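import Groth.Agent.AmpleX.CounitEpi
import Groth.Agent.VeryAmpleX.SigFT
import Groth.Agent.KFlatLib.Scheme.QCohTensor

/-!
# Twists as quotients of pullbacks of finite type modules
-/

universe u

open CategoryTheory CategoryTheory.Limits AlgebraicGeometry TopologicalSpace Opposite
open Groth.Agent.H23.PicMul

set_option backward.isDefEq.respectTransparency false
set_option backward.isDefEq.respectTransparency.types false

namespace Groth.Agent.AmpleX

open Groth.Agent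

variable {X Y : Scheme.{u}} {f : X ⟶ Y} {G : X.Modules}

/-- A map to a direct image whose range contains local generators has epi adjunct. -/
theorem epi_adjunct_of_generated {F : Y.Modules} (α : F ⟶ (Scheme.Modules.pushforward f).obj G)
    {ι : Type u} (V : ι → Y.Opens) (hV : ∀ x : X, ∃ i, f x ∈ V i)
    (h : ∀ i, ∃ (G' : ((f ⁻¹ᵁ V i : X.Opens) : Scheme.{u}).Modules) (e : G' ≅ G.restrict (f ⁻¹ᵁ V i).ι)
      (N : ℕ) (s : Fin N → Γ(G', ⊤)), ProjUP.GeneratedBy G' s ∧ ∀ k, ∃ t : Γ(F, V i),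
        (show Γ(G, f ⁻¹ᵁ V i) from α.app (V i) t) =
          AModX.res G (Scheme.Opens.ι_image_top _).ge (show Γ(G, (f ⁻¹ᵁ V i).ι ''ᵁ ⊤) from e.hom.app ⊤ (s k))) :
    Epi (((Scheme.Modules.pullbackPushforwardAdjunction f).homEquiv _ _).symm α) := by
  let adj := Scheme.Modules.pullbackPushforwardAdjunction f
  refine ⟨fun {Z} φ ψ he => ?_⟩
  have heq : α ≫ (Scheme.Modules.pushforward f).map φ = α ≫ (Scheme.Modules.pushforward f).map ψ := by
    have := congrArg (adj.homEquiv _ _) he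
    rwa [adj.homEquiv_naturality_right, adj.homEquiv_naturality_right, Equiv.apply_symm_apply] at this
  have hloc : ∀ i, (Scheme.Modules.restrictFunctor (f ⁻¹ᵁ V i).ι).map φ =
      (Scheme.Modules.restrictFunctor (f ⁻¹ᵁ V i).ι).map ψ := fun i => by
    obtain ⟨G', e, N, s, hs, ht⟩ := h i
    rw [← cancel_epi e.hom]
    refine InvX.hom_ext_of_generated hs fun k => ?_
    obtain ⟨t, ht⟩ := ht k
    let w : Γ(G, (f ⁻¹ᵁ V i).ι ''ᵁ ⊤) := e.hom.app ⊤ (s k)
    have hw : w = AModX.res G (Scheme.Opens.ι_image_top _).le (show Γ(G, f ⁻¹ᵁ V i) from α.app (V i) t) := by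
      rw [ht]
      exact (AModX.res_res (Scheme.Opens.ι_image_top (f ⁻¹ᵁ V i)).ge (Scheme.Opens.ι_image_top _).le w).trans
        (AModX.res_self w) |>.symm
    show φ.app _ w = ψ.app _ w
    rw [hw, AModX.app_res, AModX.app_res]
    exact congrArg _ congr(($heq).app (V i) t)
  refine Scheme.Modules.hom_ext _ _ fun U => ?_
  ext s
  refine AModX.eq_of_locally _ _ fun x hx => ?_
  obtain ⟨i, hi⟩ := hV x
  let W := f ⁻¹ᵁ V i
  refine ⟨W.ι ''ᵁ (W.ι ⁻¹ᵁ U), W.ι.image_preimage_le U, ⟨⟨x, hi⟩, hx, rfl⟩, ?_⟩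
  rw [← AModX.app_res, ← AModX.app_res]
  exact congr(($(hloc i)).app (W.ι ⁻¹ᵁ U) (AModX.res G (W.ι.image_preimage_le U) s))

/-- High twists are quotients of pullbacks of finite type modules. -/
theorem eventually_quotient_pullback [CompactSpace Y] [QuasiSeparatedSpace Y] [QuasiCompact f] [QuasiSeparated f]
    {L : X.Modules} (hL : RelAmple.IsRelAmple f L)
    {E : X.Modules} (hE : Coh.IsQCoh E) (hft : CohB1.IsFT E) :
    ∃ n₀ : ℕ, ∀ n, n₀ ≤ n → ∃ (F : Y.Modules)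
      (φ : (Scheme.Modules.pullback f).obj F ⟶ CohB1.tensorMod E (CohB1.tensorPow L n)),
        Coh.IsQCoh F ∧ CohB1.IsFT F ∧ Epi φ := by
  classical
  haveI : CompactSpace X := QuasiCompact.compactSpace_of_compactSpace f
  have hLi := isInvertible_of_isRelAmple hL
  have h1 : ∀ V : Y.affineOpens, ∃ n₀ : ℕ, ∀ n, n₀ ≤ n →
      ∃ (G' : ((f ⁻¹ᵁ V.1 : X.Opens) : Scheme.{u}).Modules)
        (_ : G' ≅ (CohB1.tensorMod E (CohB1.tensorPow L n)).restrict (f ⁻¹ᵁ V.1).ι)
        (N : ℕ) (s : Fin N → Γ(G', ⊤)), ProjUP.GeneratedBy G' s := fun V => by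
    let j := (f ⁻¹ᵁ V.1).ι
    have hA : CohB1.IsAmple (L.restrict j) := hL.2 V
    haveI : CompactSpace ((f ⁻¹ᵁ V.1 : X.Opens) : Scheme.{u}) :=
      isCompact_iff_compactSpace.1 (f.isCompact_preimage V.2.isCompact)
    haveI := isSeparated_of_isAmple hA
    obtain ⟨n₀, hn⟩ := eventually_generated_fin hA (QCoh.isQCoh_restrict j hE) (isFT_restrict' j hE hft)
    refine ⟨n₀, fun n hle => ?_⟩
    have e : (CohB1.tensorMod E (CohB1.tensorPow L n)).restrict j ≅
        CohB1.tensorMod (E.restrict j) ((CohB1.tensorPow L n).restrict j) :=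
      ((KFlatLib.restrictTensorBiIso j).app E).app (CohB1.tensorPow L n)
    obtain ⟨e'⟩ := cl_eq_iff.1 (show PicF.cl (CohB1.tensorPow (L.restrict j) n) =
        PicF.cl ((CohB1.tensorPow L n).restrict j) by
      rw [cl_tensorPow, cl_restrict, cl_restrict, cl_tensorPow, pullCl_pow])
    obtain ⟨G', eG, N, s, hs⟩ := hn n hle
    exact ⟨G', eG ≪≫ (DCoh.tensorBi.obj (E.restrict j)).mapIso e' ≪≫ e.symm, N, s, hs⟩
  choose n₀ hn₀ using h1
  obtain ⟨t, ht⟩ := isCompact_univ.elim_finite_subcover (fun V : Y.affineOpens => (V.1 : Set Y))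
    (fun V => V.1.2) (fun x _ => by
      obtain ⟨_, ⟨W, hW, rfl⟩, hx, -⟩ := Y.isBasis_affineOpens.exists_subset_of_mem_open (Set.mem_univ x) isOpen_univ
      exact Set.mem_iUnion.2 ⟨⟨W, hW⟩, hx⟩)
  refine ⟨t.sup n₀, fun n hn => ?_⟩
  let G := CohB1.tensorMod E (CohB1.tensorPow L n)
  have hG : Coh.IsQCoh G := KFlatLib.isQCoh_tensor hE (ProjUPX.isQCoh_of_isInvertible (InvX.isInvertible_tensorPow hLi n))
  have hpush := QCoh.isQCoh_pushforward f hG
  choose G' eG N s hs using fun V : t => hn₀ V.1 n ((Finset.le_sup V.2).trans hn)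
  let M : ∀ V : t, Set Γ((Scheme.Modules.pushforward f).obj G, V.1.1) := fun V => Set.range fun k : Fin (N V) =>
    (show Γ((Scheme.Modules.pushforward f).obj G, V.1.1) from
      AModX.res G (Scheme.Opens.ι_image_top _).ge
        (show Γ(G, (f ⁻¹ᵁ V.1.1).ι ''ᵁ ⊤) from (eG V).hom.app ⊤ (s V k)))
  obtain ⟨N', hN', hM⟩ := VeryAmpleX.Sig.exists_ft_contains hpush (Finset.univ : Finset t) (fun V => V.1.1)
    (fun V => V.1.2) M fun V => Set.finite_range _
  refine ⟨N'.toModules, _, QCoh.isQCoh_of_ftOn hpush hN', QCoh.isFT_of_ftOn hpush hN',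
    epi_adjunct_of_generated N'.ι (fun V : t => V.1.1) (fun x => ?_) fun V =>
      ⟨G' V, eG V, N V, s V, hs V, fun k => ?_⟩⟩
  · obtain ⟨V, hV, hxV⟩ := Set.mem_iUnion₂.1 (ht (Set.mem_univ (f x)))
    exact ⟨⟨V, hV⟩, hxV⟩
  · exact N'.exists_app_eq (hM V (Finset.mem_univ _) ⟨k, rfl⟩)

end Groth.Agent.AmpleX
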