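import Groth.Agent.Lib.AmpleEmbed
import Groth.Agent.AmpleX.BaseChange
import Groth.Agent.VeryAmpleX.ToPn

/-!
# A scheme of finite type with an ample invertible module immerses into projective space over the base
-/

universe u

open CategoryTheory CategoryTheory.Limits AlgebraicGeometry TopologicalSpace HomogeneousLocalization

set_option linter.style.haveILetI false
set_option backward.isDefEq.respectTransparency false
set_option backward.isDefEq.respectTransparency.types false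
set_option maxHeartbeats 800000

namespace Groth.Agent.AmpleX

open Groth.Agent Groth.Agent.InvX Groth.Agent.H23
open scoped Groth.Agent.H23.PicMul

variable {X S : Scheme.{u}}

/-- Finitely many affine loci of sections of one power, each over an affine open of the base. -/
theorem exists_cover_genLocus_over [CompactSpace X] [X.IsSeparated] {L : X.Modules} (hL : CohB1.IsAmple L)
    (f : X ⟶ S) :
    ∃ (a : ℕ) (_ : 0 < a) (κ : Type u) (_ : Fintype κ)
      (σ : κ → (Coh.structureModule X ⟶ CohB1.tensorPow L a)) (V : κ → S.affineOpens),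
      (∀ k, IsAffineOpen (CohB1.genLocus _ (σ k))) ∧
      (∀ k, CohB1.genLocus _ (σ k) ≤ f ⁻¹ᵁ (V k).1) ∧
      ∀ x : X, ∃ k, x ∈ CohB1.genLocus _ (σ k) := by
  classical
  have hloc : ∀ x : X, ∃ (m : ℕ) (_ : 0 < m) (V : S.affineOpens) (s : Coh.structureModule X ⟶ CohB1.tensorPow L m),
      x ∈ CohB1.genLocus _ s ∧ IsAffineOpen (CohB1.genLocus _ s) ∧ CohB1.genLocus _ s ≤ f ⁻¹ᵁ V.1 := fun x => by
    obtain ⟨V, hV, hxV, -⟩ := exists_isAffineOpen_mem_and_subset (x := f x) (U := ⊤) trivial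
    obtain ⟨m, hm, s, hxs, hle, hs⟩ := exists_genLocus_le hL (U := f ⁻¹ᵁ V) hxV
    exact ⟨m, hm, ⟨V, hV⟩, s, hxs, hs, hle⟩
  choose m hm V s hxs hs hle using hloc
  obtain ⟨T, hT⟩ := isCompact_univ.elim_finite_subcover
    (fun x => (CohB1.genLocus _ (s x) : Set X)) (fun x => (CohB1.genLocus _ (s x)).2)
    (fun x _ => Set.mem_iUnion.2 ⟨x, hxs x⟩)
  let a := ∏ x ∈ T, m x
  have ha : 0 < a := Finset.prod_pos fun x _ => hm x
  have hpow : ∀ x : T, ∃ t : Coh.structureModule X ⟶ CohB1.tensorPow L a,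
      CohB1.genLocus _ t = CohB1.genLocus _ (s x) := fun x => by
    obtain ⟨c, hc⟩ : m x ∣ a := Finset.dvd_prod_of_mem _ x.2
    obtain ⟨k, rfl⟩ : ∃ k, c = k + 1 := Nat.exists_eq_add_of_le'
      (Nat.pos_of_ne_zero fun h0 => by rw [h0, mul_zero] at hc; exact ha.ne' hc)
    obtain ⟨t, ht⟩ := exists_section_of_cl_eq (B := CohB1.tensorPow L a)
      (by rw [PicMul.cl_tensorPow, PicMul.cl_tensorPow, PicMul.cl_tensorPow, ← pow_mul, hc])
      (InvX.powHom (s x) (k + 1))
    exact ⟨t, ht.trans (InvX.genLocus_powHom (InvX.isInvertible_tensorPow hL.1 _) _ k)⟩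
  choose t ht using hpow
  refine ⟨a, ha, T, inferInstance, t, fun x => V x, fun x => (ht x).symm ▸ hs x,
    fun x => (ht x).symm ▸ hle x, fun x => ?_⟩
  obtain ⟨y, hy, hxy⟩ := Set.mem_iUnion₂.1 (hT (Set.mem_univ x))
  exact ⟨⟨y, hy⟩, (ht ⟨y, hy⟩).symm ▸ hxy⟩

/-- Ample on the source gives a quasi-compact immersion into projective space over the base. -/
theorem exists_immersion_projSpaceOver (f : X ⟶ S) [LocallyOfFiniteType f] [QuasiCompact f] {L₀ : X.Modules}
    (hL₀ : CohB1.IsAmple L₀) :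
    ∃ (n : ℕ) (i : X ⟶ CohB1.ProjSpaceOver n S),
      IsImmersion i ∧ QuasiCompact i ∧ i ≫ CohB1.ProjSpaceOver.toBase n S = f := by
  classical
  haveI : CompactSpace X := hL₀.2.1
  haveI : X.IsSeparated := isSeparated_of_isAmple hL₀
  obtain ⟨a, ha, κ, _, σ, V, haff, hUV, hcov⟩ := exists_cover_genLocus_over hL₀ f
  let L := CohB1.tensorPow L₀ a
  have hL : PicF.IsInvertible L := InvX.isInvertible_tensorPow hL₀.1 a
  let U : κ → X.Opens := fun i => CohB1.genLocus L (σ i)
  let φ : ∀ i, Γ(S, (V i).1) →+* Γ(X, U i) := fun i => (f.appLE (V i).1 (U i) (hUV i)).hom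
  have hgen : ∀ i, ∃ G : Finset Γ(X, U i), ∀ R : Subring Γ(X, U i), Set.range (φ i) ⊆ R → (G : Set Γ(X, U i)) ⊆ R → R = ⊤ :=
    fun i => by
    letI := (φ i).toAlgebra
    obtain ⟨G, hG⟩ := (show Algebra.FiniteType Γ(S, (V i).1) Γ(X, U i) from
      f.finiteType_appLE (V i).2 (haff i) (hUV i)).out
    refine ⟨G, fun R h1 h2 => top_le_iff.1 fun x hx0 => ?_⟩
    clear hx0
    have hx : x ∈ Algebra.adjoin Γ(S, (V i).1) (G : Set Γ(X, U i)) := hG ▸ Algebra.mem_top
    induction hx using Algebra.adjoin_induction with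
    | mem y hy => exact h2 hy
    | algebraMap c => exact h1 ⟨c, rfl⟩
    | add y z _ _ hy hz => exact R.add_mem hy hz
    | mul y z _ _ hy hz => exact R.mul_mem hy hz
  choose G hG using hgen
  have hO : Coh.IsQCoh (Coh.structureModule X) := AmpleX.isQCoh_one X
  choose n₀ hn₀ using fun p : Σ i, G i => AmpleX.exists_extend hO hL (σ p.1)
    (show Γ(Coh.structureModule X, U p.1) from (p.2.1 : Γ(X, U p.1)))
  let N := Finset.univ.sup n₀
  choose T hT using fun p : Σ i, G i => hn₀ p (N + 1) ((Finset.le_sup (Finset.mem_univ p)).trans N.le_succ)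
  let M := CohB1.tensorMod (Coh.structureModule X) (CohB1.tensorPow L (N + 1))
  have hM : PicF.IsInvertible M :=
    InvX.isInvertible_tensorMod InvX.isInvertible_structureModule (InvX.isInvertible_tensorPow hL _)
  let Sc : κ → Γ(M, ⊤) := fun i =>
    tmul (show Γ(Coh.structureModule X, ⊤) from (1 : Γ(X, ⊤))) (AmpleX.powElt (one (σ i)) (N + 1))
  have hS : ∀ i, TrivBasic.locus (Sc i) = U i := fun i => by
    have h := genLocus_mulHom InvX.isInvertible_structureModule (InvX.isInvertible_tensorPow hL (N + 1))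
      (ofSect (show Γ(Coh.structureModule X, ⊤) from (1 : Γ(X, ⊤)))) (powHom (σ i) (N + 1))
    rw [genLocus_powHom hL] at h
    have h1 : CohB1.genLocus _ (ofSect (show Γ(Coh.structureModule X, ⊤) from (1 : Γ(X, ⊤)))) = ⊤ :=
      TrivBasic.locus_eq_top_iff.2 (isFrame_one ⊤)
    rw [h1, top_inf_eq] at h
    refine Eq.trans ?_ h
    show CohB1.genLocus _ (ofSect (Sc i)) = CohB1.genLocus _ (ofSect _)
    rw [one_ofSect, AmpleX.one_powHom]
  let n := Fintype.card (κ ⊕ Σ i, G i)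
  let e : Fin (n + 1) ≃ Option (κ ⊕ Σ i, G i) :=
    ((finCongr Fintype.card_option.symm).trans (Fintype.equivFin _).symm)
  let s : Fin (n + 1) → Γ(M, ⊤) := fun j => (e j).elim 0 (Sum.elim Sc T)
  have hs : ProjUP.GeneratedBy M s := fun x => by
    obtain ⟨i, hi⟩ := hcov x
    have hxi : x ∈ TrivBasic.locus (Sc i) := by rw [hS]; exact hi
    refine eq_top_iff.2 fun z _ => ?_
    obtain ⟨c, hc⟩ := ((TrivBasic.isFrame_res_of_le_locus (le_refl (TrivBasic.locus (Sc i)))).germ_bijective hxi).2 z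
    rw [← hc]
    refine Submodule.smul_mem _ c (Submodule.subset_span ⟨e.symm (some (Sum.inl i)), ?_⟩)
    show (M.presheaf.germ ⊤ x trivial).hom ((e (e.symm _)).elim 0 (Sum.elim Sc T)) = _
    rw [Equiv.apply_symm_apply]
    exact (InvX.germ_res' (le_top : TrivBasic.locus (Sc i) ≤ ⊤) hxi (Sc i)).symm
  let Z := ULift.{u} ℤ
  obtain ⟨r, -, τ, hτ⟩ := S3572.result n (specULiftZIsTerminal.from X) M hM s hs
  let π : CohB1.ProjSpaceOver n S ⟶ CohB1.ProjSpace n Z := pullback.fst _ _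
  let i' : X ⟶ CohB1.ProjSpaceOver n S := pullback.lift r f (specULiftZIsTerminal.hom_ext _ _)
  have hfst : i' ≫ π = r := pullback.lift_fst _ _ _
  have hsnd : i' ≫ CohB1.ProjSpaceOver.toBase n S = f := pullback.lift_snd _ _ _
  let 𝒜 := CohB1.polyGrading n Z
  let D : κ → (CohB1.ProjSpace n Z).Opens := fun i => Proj.basicOpen 𝒜 (MvPolynomial.X (e.symm (some (Sum.inl i))))
  let D' : κ → (CohB1.ProjSpaceOver n S).Opens := fun i =>
    π ⁻¹ᵁ D i ⊓ CohB1.ProjSpaceOver.toBase n S ⁻¹ᵁ (V i).1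
  have hτS : ∀ i, τ.hom.app ⊤ (ProjUP.pullSec r _ (ProjUP.coord n Z (e.symm (some (Sum.inl i))))) = Sc i := fun i => by
    rw [hτ]; show Option.elim (e (e.symm _)) _ _ = _; rw [Equiv.apply_symm_apply]; rfl
  have hτT : ∀ p, τ.hom.app ⊤ (ProjUP.pullSec r _ (ProjUP.coord n Z (e.symm (some (Sum.inr p))))) = T p := fun p => by
    rw [hτ]; show Option.elim (e (e.symm _)) _ _ = _; rw [Equiv.apply_symm_apply]; rfl
  have hpre₀ : ∀ i, r ⁻¹ᵁ D i = U i := fun i => (AmpleEmbed.preimage_chart r τ _ (hτS i)).trans (hS i)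
  have hpre : ∀ i, i' ⁻¹ᵁ D' i = U i := fun i => by
    show i' ⁻¹ᵁ (π ⁻¹ᵁ D i) ⊓ i' ⁻¹ᵁ (CohB1.ProjSpaceOver.toBase n S ⁻¹ᵁ (V i).1) = U i
    rw [← Scheme.Hom.comp_preimage, ← Scheme.Hom.comp_preimage, hfst, hsnd, hpre₀]
    exact inf_eq_left.2 (hUV i)
  have hD'aff : ∀ i, IsAffineOpen (D' i) := fun i =>
    isAffineOpen_fst_inf_snd _ _ (isAffineOpen_top _) (Proj.isAffineOpen_basicOpen _ _ (ProjPt.X_mem _) one_pos)
      (V i).2 le_top le_top
  have hloc : ∀ i, IsClosedImmersion (i' ∣_ D' i) := fun i => by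
    refine VeryAmpleX.isClosedImmersion_restrict i' (hD'aff i) (haff i) (hpre i) ?_
    refine RingHom.range_eq_top.1 (hG i _ ?_ ?_)
    · rintro _ ⟨c, rfl⟩
      refine ⟨(CohB1.ProjSpaceOver.toBase n S).appLE (V i).1 (D' i) inf_le_right c, ?_⟩
      rw [← CommRingCat.comp_apply, Scheme.Hom.appLE_comp_appLE]
      simp only [hsnd]
      rfl
    · intro b hb
      refine ⟨π.appLE (D i) (D' i) inf_le_left ((Proj.awayToSection 𝒜 (MvPolynomial.X (e.symm (some (Sum.inl i))))).hom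
        (Away.mk 𝒜 (ProjPt.X_mem _) 1 (MvPolynomial.X (e.symm (some (Sum.inr ⟨i, b, hb⟩))))
          (by rw [one_smul]; exact ProjPt.X_mem _))), ?_⟩
      rw [← CommRingCat.comp_apply, Scheme.Hom.appLE_comp_appLE]
      simp only [hfst]
      refine AmpleEmbed.ratioOf_eq r τ _ _ (hτS i) (hτT ⟨i, b, hb⟩) (hpre₀ i).ge b ?_
      refine (hT ⟨i, b, hb⟩).trans ?_
      rw [res_tmul, AmpleX.res_powElt, show AModX.res (Coh.structureModule X) (le_top : U i ≤ ⊤)
        (show Γ(Coh.structureModule X, ⊤) from (1 : Γ(X, ⊤))) = (1 : Γ(X, U i)) from map_one (AModX.resR _)]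
      rw [← tmul_smul_left]
      congr 1
      exact (mul_one b).symm
  haveI hI : IsImmersion i' := by
    let W : (CohB1.ProjSpaceOver n S).Opens := ⨆ i, D' i
    have htop : i' ⁻¹ᵁ W = ⊤ := top_le_iff.1 fun x _ => by
      obtain ⟨i, hi⟩ := hcov x
      exact Opens.mem_iSup.2 ⟨i, (hpre i).ge hi⟩
    haveI : IsClosedImmersion (i' ∣_ W) := by
      refine IsZariskiLocalAtTarget.of_iSup_eq_top (P := @IsClosedImmersion) (fun p => W.ι ⁻¹ᵁ D' p)
        (top_le_iff.1 fun y _ => ?_) fun p => ?_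
      · obtain ⟨p, hp⟩ := Opens.mem_iSup.1 (show y.1 ∈ W from y.2)
        exact Opens.mem_iSup.2 ⟨p, hp⟩
      · rw [MorphismProperty.arrow_mk_iso_iff (P := @IsClosedImmersion) (morphismRestrictRestrict i' W (W.ι ⁻¹ᵁ D' p)),
          MorphismProperty.arrow_mk_iso_iff (P := @IsClosedImmersion) (morphismRestrictEq i' (V := D' p) (by
            rw [W.ι.image_preimage_eq_opensRange_inf, Scheme.Opens.opensRange_ι]
            exact inf_eq_right.2 (le_iSup D' p)))]
        exact hloc p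
    haveI : IsIso (i' ⁻¹ᵁ W).ι := by rw [htop]; exact X.topIso.isIso_hom
    have he : i' = inv (i' ⁻¹ᵁ W).ι ≫ (i' ∣_ W) ≫ W.ι := by
      rw [morphismRestrict_ι, IsIso.inv_hom_id_assoc]
    rw [he]
    infer_instance
  haveI : IsProper (CohB1.ProjSpaceOver.toBase n S) := by
    haveI : IsProper (CohB1.ProjSpace.toSpec n Z) := PnCoh.Chow.isProper_toSpec n _
    exact MorphismProperty.pullback_snd (P := @IsProper) _ _ inferInstance
  haveI : QuasiCompact (i' ≫ CohB1.ProjSpaceOver.toBase n S) := by rw [hsnd]; infer_instance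
  exact ⟨n, i', hI, QuasiCompact.of_comp i' (CohB1.ProjSpaceOver.toBase n S), hsnd⟩

end Groth.Agent.AmpleX
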