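import Groth.Agent.AmpleX.EmbedOver
import Groth.Agent.AmpleX.Comp
import Groth.Agent.AmpleX.RelAffine
import Groth.Agent.VeryAmpleX.CriterionPn

/-!
# Ample modules and immersions into projective space over a base with an ample module
-/

universe u

open CategoryTheory CategoryTheory.Limits AlgebraicGeometry TopologicalSpace

set_option linter.style.haveILetI false
set_option backward.isDefEq.respectTransparency false
set_option backward.isDefEq.respectTransparency.types false

namespace Groth.Agent.AmpleX

open Groth.Agent

variable {X S : Scheme.{u}}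

instance isProper_toBase' (n : ℕ) (S : Scheme.{u}) : IsProper (CohB1.ProjSpaceOver.toBase n S) := by
  haveI : IsProper (CohB1.ProjSpace.toSpec n (ULift.{u} ℤ)) := PnCoh.Chow.isProper_toSpec n _
  exact MorphismProperty.pullback_snd (P := @IsProper) _ _ inferInstance

/-- Relatively ample over a base with an ample module gives ample. -/
theorem exists_isAmple_of_isRelAmple (f : X ⟶ S) {L : X.Modules} (hL : RelAmple.IsRelAmple f L)
    {N : S.Modules} (hN : CohB1.IsAmple N) : ∃ M : X.Modules, CohB1.IsAmple M := by
  let t := specULiftZIsTerminal.from S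
  haveI : CompactSpace S := hN.2.1
  haveI : QuasiCompact t := (quasiCompact_iff_compactSpace t).2 inferInstance
  haveI : QuasiCompact f := hL.1
  obtain ⟨n₀, -, h⟩ := eventually_isRelAmple_comp f t hL ((isRelAmple_iff_isAmple t N).2 hN)
  exact ⟨_, (isRelAmple_iff_isAmple (f ≫ t) _).1 (h n₀ le_rfl)⟩

/-- Ample gives relatively ample. -/
theorem isRelAmple_of_isAmple (f : X ⟶ S) [QuasiCompact f] {L : X.Modules} (hL : CohB1.IsAmple L) :
    RelAmple.IsRelAmple f L := by
  let t := specULiftZIsTerminal.from S
  haveI : CompactSpace X := hL.2.1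
  haveI : QuasiCompact (f ≫ t) := (quasiCompact_iff_compactSpace _).2 inferInstance
  exact isRelAmple_of_comp t ((isRelAmple_iff_isAmple (f ≫ t) L).2 hL)

/-- An immersion into projective space gives a relatively ample module. -/
theorem exists_isRelAmple_of_immersion {n : ℕ} (i : X ⟶ CohB1.ProjSpaceOver n S) [IsImmersion i] [QuasiCompact i] :
    ∃ L : X.Modules, RelAmple.IsRelAmple (i ≫ CohB1.ProjSpaceOver.toBase n S) L :=
  ⟨_, isRelAmple_pullback_embedding _ i i.isEmbedding
    (VeryAmpleX.isRelAmple_of_isRelVeryAmple _ (VeryAmpleX.isRelVeryAmple_twistOver n S))⟩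

/-- Ample on the source of a proper map gives a closed immersion into projective space over the base. -/
theorem exists_closedImmersion_projSpaceOver (f : X ⟶ S) [IsProper f] {L : X.Modules} (hL : CohB1.IsAmple L) :
    ∃ (n : ℕ) (i : X ⟶ CohB1.ProjSpaceOver n S),
      IsClosedImmersion i ∧ i ≫ CohB1.ProjSpaceOver.toBase n S = f := by
  obtain ⟨n, i, hi, -, hif⟩ := exists_immersion_projSpaceOver f hL
  haveI := hi
  haveI : IsProper (i ≫ CohB1.ProjSpaceOver.toBase n S) := by rw [hif]; infer_instance
  haveI : IsProper i := IsProper.of_comp i (CohB1.ProjSpaceOver.toBase n S)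
  exact ⟨n, i, IsClosedImmersion.of_isPreimmersion i i.isClosedMap.isClosed_range, hif⟩

end Groth.Agent.AmpleX
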