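import Groth.Agent.AmpleVan.FinGen
import Groth.Agent.AmpleX.CounitEpi
import Groth.Agent.VeryAmpleX.SigFT
import Groth.Agent.S2297
import Groth.Agent.ZeroSchX.Basic
import Groth.Agent.KFlatLib.Scheme.TildePC
import Groth.Agent.ResolveX.MVOne

/-!
# Finitely many of the generating sections of a coherent module generate
-/

set_option linter.style.haveILetI false
set_option backward.isDefEq.respectTransparency false
set_option backward.isDefEq.respectTransparency.types false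

universe u

open CategoryTheory AlgebraicGeometry TopologicalSpace Opposite

noncomputable section

namespace Groth.Agent.AmpleVan

open Groth.Agent

variable {X : Scheme.{u}} {F : X.Modules}

/-- Finitely many generating sections suffice. -/
theorem exists_fin_generatedBy_ft [CompactSpace X] (hq : Coh.IsQCoh F) (hft : CohB1.IsFT F) {ι : Type u} (s : ι → Γ(F, ⊤))
    (hs : ProjUP.GeneratedBy F s) :
    ∃ (k : ℕ) (j : Fin k → ι), ProjUP.GeneratedBy F (s ∘ j) := by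
  classical
  obtain ⟨S, hSf, hcov⟩ := isCompact_iff_finite_and_eq_biUnion_affineOpens.mp
    (show IsCompact ((⊤ : X.Opens) : Set X) by simpa using isCompact_univ)
  haveI := hSf.to_subtype
  have hgerm : ∀ (V : X.Opens) (x : X) (hx : x ∈ V) (i : ι),
      (F.presheaf.germ V x hx).hom (AModX.res F (le_top : V ≤ ⊤) (s i)) = (F.presheaf.germ ⊤ x trivial).hom (s i) :=
    fun V x hx i => InvX.germ_res' le_top hx (s i)
  have hV : ∀ V : S, ∃ T : Finset ι, Submodule.span Γ(X, V.1.1)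
      ((fun i => AModX.res F (le_top : V.1.1 ≤ ⊤) (s i)) '' (T : Set ι)) = ⊤ := fun V => by
    haveI := QCoh.finite_of_isFT hq hft V.1.2
    have h := span_eq_top_of_germs hq V.1.2 (fun i => AModX.res F (le_top : V.1.1 ≤ ⊤) (s i)) fun x hx => by
      simp only [hgerm]
      exact hs x
    obtain ⟨W, hW⟩ := (Module.Finite.fg_top : (⊤ : Submodule Γ(X, V.1.1) Γ(F, V.1.1)).FG)
    have hmem : ∀ w ∈ W, ∃ T : Finset ι, w ∈ Submodule.span Γ(X, V.1.1)
        ((fun i => AModX.res F (le_top : V.1.1 ≤ ⊤) (s i)) '' (T : Set ι)) := fun w _ => by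
      obtain ⟨T', hT', hw⟩ := Submodule.mem_span_finite_of_mem_span (h.ge (Submodule.mem_top (x := w)))
      obtain ⟨T, hT⟩ := Finset.subset_set_image_iff.1
        (show (T' : Set Γ(F, V.1.1)) ⊆ (fun i => AModX.res F (le_top : V.1.1 ≤ ⊤) (s i)) '' Set.univ by
          rw [Set.image_univ]; exact hT')
      refine ⟨T, ?_⟩
      rw [← Finset.coe_image, hT.2]
      exact hw
    choose! T hT using hmem
    refine ⟨W.biUnion T, eq_top_iff.2 ?_⟩
    rw [← hW]
    refine Submodule.span_le.2 fun w hw => ?_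
    exact Submodule.span_mono (Set.image_mono (fun i hi => Finset.mem_biUnion.2 ⟨w, hw, hi⟩)) (hT w hw)
  choose T hT using hV
  haveI := Fintype.ofFinite S
  let U := Finset.univ.biUnion T
  refine ⟨U.card, fun a => (U.equivFin.symm a : ι), fun x => eq_top_iff.2 fun z _ => ?_⟩
  have hx : x ∈ (⊤ : X.Opens) := trivial
  rw [hcov] at hx
  obtain ⟨V, hVS, hxV⟩ := by simpa only [Opens.mem_iSup, exists_prop] using hx
  obtain ⟨W, hxW, w, rfl⟩ := TopCat.Presheaf.exists_germ_eq F.presheaf z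
  letI := QCoh.stalkAlg (X := X) (U := V.1) hxV
  letI := QCoh.stalkModule F hxV
  haveI := QCoh.isScalarTower_stalk F hxV
  haveI := QCoh.isLocalization_stalk' V.2 hxV
  haveI := QCoh.isLocalizedModule_germLin hq V.2 hxV
  have h1 : Submodule.localized' (X.presheaf.stalk x) (V.2.primeIdealOf ⟨x, hxV⟩).asIdeal.primeCompl
      (QCoh.germLin F hxV) (Submodule.span Γ(X, V.1)
        ((fun i => AModX.res F (le_top : V.1 ≤ ⊤) (s i)) '' (T ⟨V, hVS⟩ : Set ι))) = ⊤ := by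
    rw [hT ⟨V, hVS⟩, Submodule.localized'_top]
  rw [Submodule.localized'_span] at h1
  refine Submodule.span_mono ?_ (h1.ge (Submodule.mem_top (x := _)))
  rintro _ ⟨_, ⟨i, hi, rfl⟩, rfl⟩
  have hiU : i ∈ U := Finset.mem_biUnion.2 ⟨⟨V, hVS⟩, Finset.mem_univ _, hi⟩
  refine ⟨U.equivFin ⟨i, hiU⟩, ?_⟩
  show (F.presheaf.germ ⊤ x trivial).hom (s ↑(U.equivFin.symm (U.equivFin ⟨i, hiU⟩))) = _
  rw [Equiv.symm_apply_apply]
  exact (hgerm V.1 x hxV i).symm

end Groth.Agent.AmpleVan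

namespace Groth.Agent.AmpleX

open Groth.Agent Groth.Agent.H23.PicMul

variable {X Y : Scheme.{u}} {f : X ⟶ Y}

/-- High twists by a relatively ample module are quotients of pullbacks of modules of finite type. -/
theorem eventually_quotient_pullback [CompactSpace Y] [QuasiSeparatedSpace Y] [QuasiCompact f]
    [QuasiSeparated f] {L : X.Modules} (hL : RelAmple.IsRelAmple f L)
    {F : X.Modules} (hF : Coh.IsQCoh F) (hft : CohB1.IsFT F) :
    ∃ n₀ : ℕ, ∀ n, n₀ ≤ n → ∀ G : X.Modules, Nonempty (CohB1.tensorMod F (CohB1.tensorPow L n) ≅ G) →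
      ∃ (N : Y.Modules) (π : (Scheme.Modules.pullback f).obj N ⟶ G), Coh.IsQCoh N ∧ CohB1.IsFT N ∧ Epi π := by
  classical
  haveI : CompactSpace X := QuasiCompact.compactSpace_of_compactSpace f
  have hLi := isInvertible_of_isRelAmple hL
  have h1 : ∀ V : Y.affineOpens, ∃ n₀ : ℕ, ∀ n, n₀ ≤ n → ∀ G : X.Modules,
      Nonempty (CohB1.tensorMod F (CohB1.tensorPow L n) ≅ G) →
      Curv2.IsGloballyGenerated (G.restrict (f ⁻¹ᵁ V.1).ι) := fun V => by
    let j := (f ⁻¹ᵁ V.1).ι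
    have hA : CohB1.IsAmple (L.restrict j) := hL.2 V
    haveI : CompactSpace ((f ⁻¹ᵁ V.1 : X.Opens) : Scheme.{u}) :=
      isCompact_iff_compactSpace.1 (f.isCompact_preimage V.2.isCompact)
    haveI := isSeparated_of_isAmple hA
    obtain ⟨n₀, hn⟩ := eventually_isGloballyGenerated hA (QCoh.isQCoh_restrict j hF)
      (isFT_restrict' j hF hft)
    refine ⟨n₀, fun n hle G ⟨eG⟩ => ?_⟩
    have e : (CohB1.tensorMod F (CohB1.tensorPow L n)).restrict j ≅
        CohB1.tensorMod (F.restrict j) ((CohB1.tensorPow L n).restrict j) :=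
      ((KFlatLib.restrictTensorBiIso j).app F).app (CohB1.tensorPow L n)
    obtain ⟨e'⟩ := cl_eq_iff.1 (show PicF.cl (CohB1.tensorPow (L.restrict j) n) =
        PicF.cl ((CohB1.tensorPow L n).restrict j) by
      rw [cl_tensorPow, cl_restrict, cl_restrict, cl_tensorPow, pullCl_pow])
    exact isGloballyGenerated_of_iso ((DCoh.tensorBi.obj (F.restrict j)).mapIso e' ≪≫ e.symm ≪≫
      (Scheme.Modules.restrictFunctor j).mapIso eG) (hn n hle)
  choose n₀ hn₀ using h1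
  obtain ⟨t, ht⟩ := (isCompact_univ (X := Y)).elim_finite_subcover (fun V : Y.affineOpens => (V.1 : Set Y))
    (fun V => V.1.2) (fun x _ => by
      obtain ⟨_, ⟨W, hW, rfl⟩, hx, -⟩ := Y.isBasis_affineOpens.exists_subset_of_mem_open (Set.mem_univ x) isOpen_univ
      exact Set.mem_iUnion.2 ⟨⟨W, hW⟩, hx⟩)
  refine ⟨t.sup n₀, fun n hn G ⟨eG⟩ => ?_⟩
  haveI := hF
  haveI := ProjUPX.isQCoh_of_isInvertible (isInvertible_tensorPow hLi n)
  obtain ⟨hTq₀, hTf₀⟩ := S2297.result F (CohB1.tensorPow L n)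
  have hTq : Coh.IsQCoh G := KFlatLib.isQCoh_of_iso eG hTq₀
  have hTf : CohB1.IsFT G :=
    KFlatLib.isFT_of_iso' eG (hTf₀ hft (ZeroSchX.isFT_inv (isInvertible_tensorPow hLi n)))
  have hM : ∀ V : t, ∃ (k : ℕ) (s : Fin k → Γ(G.restrict (f ⁻¹ᵁ V.1.1).ι, ⊤)),
      ProjUP.GeneratedBy (G.restrict (f ⁻¹ᵁ V.1.1).ι) s := fun V => by
    haveI : CompactSpace ((f ⁻¹ᵁ V.1.1 : X.Opens) : Scheme.{u}) :=
      isCompact_iff_compactSpace.1 (f.isCompact_preimage V.1.2.isCompact)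
    obtain ⟨ι, s, hs⟩ := ResolveX.exists_generatedBy (hn₀ V.1 n ((Finset.le_sup V.2).trans hn) G ⟨eG⟩)
    obtain ⟨k, j, hj⟩ := AmpleVan.exists_fin_generatedBy_ft (QCoh.isQCoh_restrict _ hTq)
      (isFT_restrict' _ hTq hTf) s hs
    exact ⟨k, _, hj⟩
  choose k s hs using hM
  have hE : Coh.IsQCoh ((Scheme.Modules.pushforward f).obj G) := QCoh.isQCoh_pushforward f hTq
  let σ : ∀ V : t, Fin (k V) → Γ((Scheme.Modules.pushforward f).obj G, V.1.1) := fun V a =>
    AModX.res G (Scheme.Opens.ι_image_top _).ge (s V a)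
  obtain ⟨N, hN, hNM⟩ := VeryAmpleX.Sig.exists_ft_contains hE Finset.univ (fun V : t => V.1.1) (fun V => V.1.2)
    (fun V => Set.range (σ V)) (fun V => Set.finite_range _)
  let adj := Scheme.Modules.pullbackPushforwardAdjunction f
  refine ⟨N.toModules, (adj.homEquiv _ _).symm N.ι, QCoh.isQCoh_of_ftOn hE hN, QCoh.isFT_of_ftOn hE hN,
    ⟨fun {Z} φ ψ he => ?_⟩⟩
  have heq : N.ι ≫ (Scheme.Modules.pushforward f).map φ = N.ι ≫ (Scheme.Modules.pushforward f).map ψ := by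
    have := congrArg (adj.homEquiv _ _) he
    simpa only [adj.homEquiv_naturality_right, Equiv.apply_symm_apply] using this
  have hloc : ∀ V : t, (Scheme.Modules.restrictFunctor (f ⁻¹ᵁ V.1.1).ι).map φ =
      (Scheme.Modules.restrictFunctor (f ⁻¹ᵁ V.1.1).ι).map ψ := fun V => InvX.hom_ext_of_generated (hs V) fun a => by
    obtain ⟨m, hm⟩ := N.exists_app_eq (hNM V (Finset.mem_univ _) ⟨a, rfl⟩)
    have key : φ.app (f ⁻¹ᵁ V.1.1) (σ V a) = ψ.app (f ⁻¹ᵁ V.1.1) (σ V a) := by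
      rw [← hm]
      exact congr(($heq).app V.1.1 m)
    let W := f ⁻¹ᵁ V.1.1
    have h₁ : W.ι ''ᵁ ⊤ ≤ W := W.ι_image_top.le
    have hsa : (s V a : Γ(G, W.ι ''ᵁ ⊤)) = AModX.res G h₁ (σ V a) :=
      ((AModX.res_res _ h₁ (s V a)).trans (AModX.res_self _)).symm
    exact (congrArg (φ.app (W.ι ''ᵁ ⊤)) hsa).trans ((AModX.app_res φ h₁ _).trans
      ((congrArg (AModX.res Z h₁) key).trans ((AModX.app_res ψ h₁ _).symm.trans
        (congrArg (ψ.app (W.ι ''ᵁ ⊤)) hsa.symm))))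
  refine Scheme.Modules.hom_ext _ _ fun U => ?_
  ext x
  refine AModX.eq_of_locally _ _ fun y hy => ?_
  obtain ⟨V, hV, hyV⟩ := Set.mem_iUnion₂.1 (ht (Set.mem_univ (f y)))
  let W := f ⁻¹ᵁ V.1
  refine ⟨W.ι ''ᵁ (W.ι ⁻¹ᵁ U), W.ι.image_preimage_le U, ⟨⟨y, hyV⟩, hy, rfl⟩, ?_⟩
  rw [← AModX.app_res, ← AModX.app_res]
  exact congr(($(hloc ⟨V, hV⟩)).app (W.ι ⁻¹ᵁ U) (AModX.res G (W.ι.image_preimage_le U) x))

end Groth.Agent.AmpleX
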